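import Cfsg.Agent.H230.Rel
set_option linter.all false

/-!
# More relative notions: `O_p` of subgroups, Sylow subgroups of normal subgroups, `p`-closed and (strongly)
`p`-irreducible groups under homomorphisms with `p`-group kernel
-/

set_option autoImplicit false
open Cfsg

namespace Cfsg.Agent.H230

open Cfsg.Agent.Lib.Cores Cfsg.Agent.Transfer.Residual

variable {X : Type*} [Group X]

theorem isPGroup_pCoreOf (p : ℕ) (A : Subgroup X) : IsPGroup p ↥(pCoreOf p A) :=
  (pCore_isPGroup p).map _

theorem pCoreOf_le' (p : ℕ) (A : Subgroup X) : pCoreOf p A ≤ A := Subgroup.map_subtype_le _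

theorem le_normalizer_pCoreOf (p : ℕ) (A : Subgroup X) : A ≤ Subgroup.normalizer (pCoreOf p A : Set X) :=
  Subgroup.le_normalizer.trans (normalizer_le_normalizer_pCoreOf p A)

theorem le_pCoreOf {p : ℕ} {N A : Subgroup X} (hNA : N ≤ A) (hn : A ≤ Subgroup.normalizer (N : Set X))
    (hp : IsPGroup p ↥N) : N ≤ pCoreOf p A := by
  have h1 : (N.subgroupOf A).Normal := (Subgroup.normal_subgroupOf_iff_le_normalizer hNA).2 hn
  have h2 : IsPGroup p ↥(N.subgroupOf A) := hp.comap_of_injective A.subtype (Subgroup.subtype_injective A)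
  have h3 := Subgroup.map_mono (f := A.subtype) (le_pCore h1 h2)
  rwa [Subgroup.subgroupOf_map_subtype, inf_eq_left.2 hNA] at h3

theorem IsSylowOf.pCoreOf_le {p : ℕ} {T A : Subgroup X} (h : IsSylowOf p T A) : pCoreOf p A ≤ T := by
  obtain ⟨P, rfl⟩ := h
  exact Subgroup.map_mono (pCore_le_sylow P)

/-- `O_p` of a normal subgroup. -/
theorem pCoreOf_le_pCoreOf {p : ℕ} {N A : Subgroup X} (hNA : N ≤ A)
    (hn : A ≤ Subgroup.normalizer (N : Set X)) : pCoreOf p N ≤ pCoreOf p A :=
  le_pCoreOf ((pCoreOf_le' p N).trans hNA) (hn.trans (normalizer_le_normalizer_pCoreOf p N))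
    (isPGroup_pCoreOf p N)

theorem pCoreOf_top (p : ℕ) : pCoreOf p (⊤ : Subgroup X) = pCore p X := by
  have h := map_subtype_pCore p (N := (⊤ : Subgroup X)) (by infer_instance)
  rw [top_inf_eq] at h
  exact h

theorem resOf_top (p : ℕ) : resOf p (⊤ : Subgroup X) = pResidual p X := by
  rw [resOf_eq_closure]
  unfold pResidual
  congr 1
  ext g
  simp

/-- A Sylow subgroup meets a normal subgroup in a Sylow subgroup. -/
theorem IsSylowOf.inf_normal {p : ℕ} [Fact p.Prime] {T A N : Subgroup X} [Finite ↥A] (h : IsSylowOf p T A)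
    (hNA : N ≤ A) (hn : A ≤ Subgroup.normalizer (N : Set X)) : IsSylowOf p (T ⊓ N) N := by
  rw [isSylowOf_iff_maximal]
  refine ⟨inf_le_right, h.isPGroup.to_le inf_le_left, ?_⟩
  intro R hRN hR hTR
  obtain ⟨T', hT', hRT'⟩ := exists_isSylowOf_ge (hRN.trans hNA) hR
  obtain ⟨a, ha, rfl⟩ := h.exists_conj hT'
  have hRle : R ≤ (T ⊓ N).map (MulAut.conj a).toMonoidHom := by
    rw [Subgroup.map_inf _ _ _ (MulAut.conj a).injective, map_conj_eq_iff_mem_normalizer.2 (hn ha)]
    exact le_inf hRT' hRN
  have hTf : Finite ↥T := Finite.of_injective (Subgroup.inclusion h.le) (Subgroup.inclusion_injective _)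
  have hf : Finite ↥(T ⊓ N : Subgroup X) :=
    Finite.of_injective (Subgroup.inclusion (inf_le_left : (T ⊓ N : Subgroup X) ≤ T)) (Subgroup.inclusion_injective _)
  have hf2 : Finite ↥((T ⊓ N).map (MulAut.conj a).toMonoidHom) := Finite.Set.finite_image _ _
  have hRf : Finite ↥R :=
    Finite.of_injective (Subgroup.inclusion hRle) (Subgroup.inclusion_injective _)
  have hce : Nat.card ↥((T ⊓ N).map (MulAut.conj a).toMonoidHom) = Nat.card ↥(T ⊓ N : Subgroup X) :=
    Subgroup.card_map_of_injective (MulAut.conj a).injective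
  have hc : Nat.card ↥R ≤ Nat.card ↥(T ⊓ N : Subgroup X) := by
    rw [← hce]
    exact Subgroup.card_le_of_le hRle
  exact (Subgroup.eq_of_le_of_card_ge hTR hc).symm

/-! ### Homomorphisms with `p`-group kernel -/

/-- The map `A → π(A)` induced by the quotient map by a normal `p`-subgroup has `p`-group kernel. -/
theorem isPGroup_ker_subgroupMap {G : Type*} [Group G] {K : Type*} [Group K] {p : ℕ} {f : G →* K}
    (hk : IsPGroup p f.ker) (N : Subgroup G) : IsPGroup p (f.subgroupMap N).ker := by
  rintro ⟨⟨x, hx⟩, hxk⟩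
  have hx1 : x ∈ f.ker := by
    rw [MonoidHom.mem_ker] at hxk ⊢
    exact congrArg Subtype.val hxk
  obtain ⟨k, hk'⟩ := hk ⟨x, hx1⟩
  refine ⟨k, ?_⟩
  apply Subtype.ext
  apply Subtype.ext
  have h1 := congrArg Subtype.val hk'
  exact h1

section Hom

variable {G : Type*} [Group G] {K : Type*} [Group K] {p : ℕ}

theorem comap_pCore_of_surjective {f : G →* K} (hf : Function.Surjective f) (hk : IsPGroup p f.ker) :
    (pCore p K).comap f = pCore p G := by
  apply le_antisymm
  · apply le_pCore
    · exact (pCore_normal p K).comap f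
    · exact (pCore_isPGroup p).comap_of_ker_isPGroup f hk
  · rw [← Subgroup.map_le_iff_le_comap]
    apply le_pCore
    · exact (pCore_normal p G).map f hf
    · exact (pCore_isPGroup p).map f

theorem map_pCore_of_surjective {f : G →* K} (hf : Function.Surjective f) (hk : IsPGroup p f.ker) :
    (pCore p G).map f = pCore p K := by
  rw [← comap_pCore_of_surjective hf hk, Subgroup.map_comap_eq_self_of_surjective hf]

/-- `p`-closed: every `p`-subgroup lies in `O_p`. -/
theorem isPClosed_iff [Finite G] [Fact p.Prime] :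
    IsPClosed p G ↔ ∀ P : Subgroup G, IsPGroup p P → P ≤ pCore p G := by
  constructor
  · intro h P hP
    obtain ⟨S, hS⟩ := hP.exists_le_sylow
    exact hS.trans (le_pCore (h S) S.2)
  · intro h S
    have : (S : Subgroup G) = pCore p G := le_antisymm (h S S.2) (pCore_le_sylow S)
    rw [this]
    exact pCore_normal p G

theorem isPClosed_of_sylow_normal [Finite G] [Fact p.Prime] (S : Sylow p G) (hS : (S : Subgroup G).Normal) :
    IsPClosed p G := by
  rw [isPClosed_iff]
  intro P hP
  obtain ⟨T, hT⟩ := hP.exists_le_sylow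
  obtain ⟨g, hg⟩ := MulAction.exists_smul_eq G S T
  rw [Sylow.smul_eq_of_normal] at hg
  rw [← hg] at hT
  exact hT.trans (le_pCore hS S.2)

theorem isPClosed_iff_of_surjective [Finite G] [Finite K] [Fact p.Prime] {f : G →* K}
    (hf : Function.Surjective f) (hk : IsPGroup p f.ker) : IsPClosed p G ↔ IsPClosed p K := by
  rw [isPClosed_iff, isPClosed_iff]
  constructor
  · intro h P hP
    have h1 := h (P.comap f) (hP.comap_of_ker_isPGroup f hk)
    rw [← comap_pCore_of_surjective hf hk] at h1
    exact (Subgroup.comap_le_comap_of_surjective hf).1 h1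
  · intro h P hP
    have h1 := h (P.map f) (hP.map f)
    rwa [Subgroup.map_le_iff_le_comap, comap_pCore_of_surjective hf hk] at h1

/-- `p`-closed passes to subgroups. -/
theorem IsPClosed.subgroup [Finite G] [Fact p.Prime] (h : IsPClosed p G) (A : Subgroup G) : IsPClosed p ↥A := by
  rw [isPClosed_iff] at h ⊢
  intro P hP
  have h1 := h (P.map A.subtype) (hP.map _)
  have h2 : (pCore p G).subgroupOf A ≤ pCore p ↥A :=
    le_pCore ((pCore_normal p G).comap _)
      ((pCore_isPGroup p).comap_of_injective A.subtype (Subgroup.subtype_injective A))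
  refine le_trans ?_ h2
  rwa [Subgroup.subgroupOf, ← Subgroup.map_le_iff_le_comap]

theorem pResidual_le_of_le_sup [Finite G] [Fact p.Prime] {N L : Subgroup G} [hN : N.Normal]
    (hL : IsPGroup p ↥L) (h : pResidual p G ≤ N ⊔ L) : pResidual p G ≤ N := by
  rw [pResidual_def, Subgroup.closure_le]
  intro x hx
  have h1 : x ∈ N ⊔ L := h (mem_pResidual_of_coprime hx)
  have h2 : QuotientGroup.mk' N x ∈ L.map (QuotientGroup.mk' N) := by
    have := Subgroup.mem_map_of_mem (QuotientGroup.mk' N) h1
    rw [Subgroup.map_sup] at this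
    have e : N.map (QuotientGroup.mk' N) = ⊥ := by
      rw [Subgroup.map_eq_bot_iff, QuotientGroup.ker_mk']
    rwa [e, bot_sup_eq] at this
  have h3 : IsPGroup p ↥(L.map (QuotientGroup.mk' N)) := hL.map _
  obtain ⟨k, hk⟩ := IsPGroup.iff_orderOf.1 h3 ⟨_, h2⟩
  rw [Subgroup.orderOf_mk] at hk
  have h4 : Nat.Coprime (orderOf (QuotientGroup.mk' N x)) p :=
    Nat.Coprime.coprime_dvd_left (orderOf_map_dvd _ x) hx
  have h5 : orderOf (QuotientGroup.mk' N x) = 1 := by
    rw [hk] at h4 ⊢
    rcases Nat.eq_zero_or_pos k with rfl | hk0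
    · simp
    · exfalso
      have := Nat.Coprime.coprime_dvd_left (dvd_pow_self p hk0.ne') h4
      rw [Nat.coprime_self] at this
      exact (Fact.out : p.Prime).one_lt.ne' this
  have h6 := orderOf_eq_one_iff.1 h5
  exact (QuotientGroup.eq_one_iff x).1 h6

/-- `p`-irreducibility lifts through a surjection with `p`-group kernel. -/
theorem isPIrreducible_of_surjective [Finite G] [Finite K] [Fact p.Prime] {f : G →* K}
    (hf : Function.Surjective f) (hk : IsPGroup p f.ker) (h : IsPIrreducible p K) : IsPIrreducible p G := by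
  refine ⟨fun hc => h.1 ((isPClosed_iff_of_surjective hf hk).1 hc), ?_⟩
  intro N hN hNc
  have hs : Function.Surjective (f.subgroupMap N) := f.subgroupMap_surjective N
  have hks : IsPGroup p (f.subgroupMap N).ker := isPGroup_ker_subgroupMap hk N
  have h1 : ¬ IsPClosed p ↥(N.map f) := fun hc => hNc ((isPClosed_iff_of_surjective hs hks).2 hc)
  have h2 := h.2 (N.map f) (hN.map f hf) h1
  rw [← map_pResidual_of_surjective f hf] at h2
  have h3 : pResidual p G ≤ N ⊔ f.ker := by
    have := Subgroup.map_le_iff_le_comap.1 h2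
    rwa [Subgroup.comap_map_eq] at this
  exact pResidual_le_of_le_sup hk h3

/-- Strong `p`-irreducibility passes to the image under a surjection with `p`-group kernel. -/
theorem isStronglyPIrreducible_map [Finite G] [Finite K] [Fact p.Prime] {f : G →* K}
    (hf : Function.Surjective f) (hk : IsPGroup p f.ker) (h : IsStronglyPIrreducible p G) :
    IsStronglyPIrreducible p K := by
  refine ⟨fun hc => h.1 ((isPClosed_iff_of_surjective hf hk).2 hc), ?_⟩
  intro N hN hNc
  have h1 : ¬ ⁅N.comap f, (⊤ : Subgroup G)⁆ ≤ pCore p G := by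
    intro hle
    apply hNc
    have := Subgroup.map_mono (f := f) hle
    rwa [Subgroup.map_commutator, Subgroup.map_comap_eq_self_of_surjective hf,
      Subgroup.map_top_of_surjective f hf, map_pCore_of_surjective hf hk] at this
  have h2 := h.2 (N.comap f) (hN.comap f) h1
  rw [← map_pResidual_of_surjective f hf, Subgroup.map_le_iff_le_comap]
  exact h2

end Hom

/-- `O^p` of an image. -/
theorem resOf_map {G : Type*} [Group G] [Finite G] {K : Type*} [Group K] {p : ℕ} [Fact p.Prime]
    (f : G →* K) (A : Subgroup G) : resOf p (A.map f) = (resOf p A).map f := by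
  unfold resOf
  rw [← map_pResidual_of_surjective (f.subgroupMap A) (f.subgroupMap_surjective A), Subgroup.map_map,
    Subgroup.map_map]
  congr 1

end Cfsg.Agent.H230
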